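import Groth.Agent.RFPlus43.Seq
import Mathlib.Algebra.Homology.SingleHomology
import Mathlib.Algebra.Homology.Additive
import Mathlib.Algebra.Homology.HomotopyCategory.Acyclic

/-! Bounded below complexes of `G`-acyclic objects compute `RG`. -/

set_option autoImplicit false
universe w w' v u v' u'

namespace Groth.Agent.RFPlus43

open CategoryTheory CategoryTheory.Limits CategoryTheory.Pretriangulated

theorem isIso_app_biprod {A : Type u} [Category.{v} A] [Preadditive A] [HasBinaryBiproducts A]
    {B : Type u'} [Category.{v'} B] [Preadditive B] {F F' : A ⥤ B} [F.Additive] [F'.Additive]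
    (ν : F ⟶ F') (X Y : A) [IsIso (ν.app X)] [IsIso (ν.app Y)] : IsIso (ν.app (X ⊞ Y)) := by
  refine ⟨⟨F'.map biprod.fst ≫ inv (ν.app X) ≫ F.map biprod.inl +
    F'.map biprod.snd ≫ inv (ν.app Y) ≫ F.map biprod.inr, ?_, ?_⟩⟩
  · simp only [Preadditive.comp_add, ← ν.naturality_assoc, IsIso.hom_inv_id_assoc,
      ← Functor.map_comp, ← Functor.map_add, biprod.total, CategoryTheory.Functor.map_id]
  · simp only [Preadditive.add_comp, Category.assoc, ν.naturality, IsIso.inv_hom_id_assoc,
      ← Functor.map_comp, ← Functor.map_add, biprod.total, CategoryTheory.Functor.map_id]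

variable {C : Type u} [Category.{v} C] [Abelian C]

theorem mono_homologyMap_of_mono {K L : CochainComplex C ℤ} (φ : K ⟶ L)
    (hK : IsZero (K.X (-1))) (hL : IsZero (L.X (-1))) [Mono (φ.f 0)] :
    Mono (HomologicalComplex.homologyMap φ 0) := by
  have h := HomologicalComplex.cyclesMap_i φ 0
  have : Mono (HomologicalComplex.cyclesMap φ 0) := mono_of_mono_fac h
  have := K.isIso_homologyπ (-1) 0 (by simp) (hK.eq_of_src _ _)
  have := L.isIso_homologyπ (-1) 0 (by simp) (hL.eq_of_src _ _)
  have h2 : inv (K.homologyπ 0) ≫ HomologicalComplex.cyclesMap φ 0 ≫ L.homologyπ 0 =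
      HomologicalComplex.homologyMap φ 0 := by
    rw [IsIso.inv_comp_eq, HomologicalComplex.homologyπ_naturality]
  rw [← h2]
  infer_instance

/-- The single complex in degree `0`, as a bounded below complex. -/
noncomputable def singleP : C ⥤ CochainComplex.Plus C :=
  ObjectProperty.lift _ (HomologicalComplex.single C (ComplexShape.up ℤ) 0)
    (fun X => ⟨0, (inferInstance :
      CochainComplex.IsStrictlyGE ((HomologicalComplex.single C (ComplexShape.up ℤ) 0).obj X) 0)⟩)

instance : (singleP (C := C)).Additive where
  map_add {X Y f g} := ObjectProperty.hom_ext _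
    ((HomologicalComplex.single C (ComplexShape.up ℤ) 0).map_add (f := f) (g := g))

variable [HasDerivedCategory.{w} C] [EnoughInjectives C] {D : Type u'} [Category.{v'} D] [Abelian D]
  [HasDerivedCategory.{w'} D] (G : C ⥤ D) [G.Additive]

/-- `RG` on a complex, before applying cohomology. -/
noncomputable def RGK : HomotopyCategory.Plus C ⥤ DerivedCategory D :=
  DerivedCategory.Plus.Qh ⋙ G.rightDerivedFunctorPlus ⋙ DerivedCategory.Plus.ι

/-- The naive application of `G` to a complex. -/
noncomputable def GK : HomotopyCategory.Plus C ⥤ DerivedCategory D :=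
  G.mapHomotopyCategoryPlus ⋙ DerivedCategory.Plus.Qh ⋙ DerivedCategory.Plus.ι

/-- The unit, in `D(D)`. -/
noncomputable def unitK : GK G ⟶ RGK G where
  app K := DerivedCategory.Plus.ι.map (G.rightDerivedFunctorPlusUnit.app K)
  naturality K L f := by
    have h := congrArg DerivedCategory.Plus.ι.map (G.rightDerivedFunctorPlusUnit.naturality f)
    rw [Functor.map_comp, Functor.map_comp] at h
    exact h

omit [HasDerivedCategory.{w} C] [EnoughInjectives C] in
theorem isIso_GK_map_iff {K L : HomotopyCategory.Plus C} (f : K ⟶ L) :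
    IsIso ((GK G).map f) ↔ HomotopyCategory.quasiIso D (ComplexShape.up ℤ)
      ((G.mapHomotopyCategory (ComplexShape.up ℤ)).map f.hom) :=
  DerivedCategory.isIso_Qh_map_iff _

theorem isIso_unitK_iff (K : HomotopyCategory.Plus C) :
    IsIso ((unitK G).app K) ↔ IsIso (G.rightDerivedFunctorPlusUnit.app K) :=
  ⟨fun h => @isIso_of_fully_faithful _ _ _ _ DerivedCategory.Plus.ι _ _ _ _
      (G.rightDerivedFunctorPlusUnit.app K) h,
    fun h => @Functor.map_isIso _ _ _ _ _ _ DerivedCategory.Plus.ι _ h⟩

theorem additive_rightDerivedFunctorPlus : G.rightDerivedFunctorPlus.Additive := by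
  let Q' := (InjectiveObject.ι C).mapHomotopyCategoryPlus ⋙ DerivedCategory.Plus.Qh (C := C)
  have : Q'.Full := ⟨fun {K L} f => by
    obtain ⟨L₀, rfl⟩ := HomotopyCategory.Plus.quotient_obj_surjective L
    obtain ⟨g, hg⟩ := (DerivedCategory.Plus.Qh_map_bijective_of_isKInjective
      ((InjectiveObject.ι C).mapHomotopyCategoryPlus.obj K)
      ((InjectiveObject.ι C).mapHomotopyCategoryPlus.obj
        ((HomotopyCategory.Plus.quotient _).obj L₀))
      (inferInstanceAs (CochainComplex.IsKInjective
        (((InjectiveObject.ι C).mapHomologicalComplex (ComplexShape.up ℤ)).obj L₀.obj)))).2 f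
    exact ⟨(InjectiveObject.ι C).mapHomotopyCategoryPlus.preimage g, by
      change DerivedCategory.Plus.Qh.map _ = f
      rw [Functor.map_preimage]; exact hg⟩⟩
  have : IsIso (Functor.whiskerLeft (InjectiveObject.ι C).mapHomotopyCategoryPlus
      G.rightDerivedFunctorPlusUnit) := by
    refine @NatIso.isIso_of_isIso_app _ _ _ _ _ _ _ (fun X => ?_)
    exact inferInstanceAs (IsIso (G.rightDerivedFunctorPlusUnit.app
      ((InjectiveObject.ι C).mapHomotopyCategoryPlus.obj X)))
  have : (Q' ⋙ G.rightDerivedFunctorPlus).Additive :=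
    Functor.additive_of_iso (F := (InjectiveObject.ι C).mapHomotopyCategoryPlus ⋙
        G.mapHomotopyCategoryPlus ⋙ DerivedCategory.Plus.Qh)
      (asIso (Functor.whiskerLeft (InjectiveObject.ι C).mapHomotopyCategoryPlus
        G.rightDerivedFunctorPlusUnit) ≪≫ (Functor.associator _ _ _).symm)
  exact Functor.additive_of_full_essSurj_comp Q' G.rightDerivedFunctorPlus

/-- The functor `RG` on objects placed in degree `0`. -/
noncomputable def RGsingle : C ⥤ DerivedCategory D :=
  singleP ⋙ HomotopyCategory.Plus.quotient C ⋙ RGK G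

/-- The functor `G` on objects placed in degree `0`. -/
noncomputable def Gsingle : C ⥤ DerivedCategory D :=
  singleP ⋙ HomotopyCategory.Plus.quotient C ⋙ GK G

/-- The unit on objects placed in degree `0`. -/
noncomputable def unitSingle : Gsingle G ⟶ RGsingle G :=
  Functor.whiskerLeft singleP (Functor.whiskerLeft (HomotopyCategory.Plus.quotient C) (unitK G))

instance : (HomotopyCategory.Plus.quotient C).Additive where
  map_add {X Y f g} := ObjectProperty.hom_ext _
    ((HomotopyCategory.quotient C (ComplexShape.up ℤ)).map_add (f := f.hom) (g := g.hom))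

instance : (RGsingle G).Additive := by
  have := additive_rightDerivedFunctorPlus G
  unfold RGsingle RGK
  infer_instance

instance : (Gsingle G).Additive := by
  unfold Gsingle GK
  infer_instance

/-- Cohomology of the naive `G` is cohomology of the complex. -/
noncomputable def GKHomologyIso (j : ℤ) :
    HomotopyCategory.Plus.quotient C ⋙ GK G ⋙ DerivedCategory.homologyFunctor D j ≅
      CochainComplex.Plus.ι C ⋙ G.mapHomologicalComplex (ComplexShape.up ℤ) ⋙
        HomologicalComplex.homologyFunctor D (ComplexShape.up ℤ) j :=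
  NatIso.ofComponents
    (fun K => ((Functor.isoWhiskerLeft (HomotopyCategory.quotient D (ComplexShape.up ℤ))
        (DerivedCategory.homologyFunctorFactorsh D j)) ≪≫
      HomotopyCategory.homologyFunctorFactors D (ComplexShape.up ℤ) j).app
        ((G.mapHomologicalComplex (ComplexShape.up ℤ)).obj K.obj))
    (fun {K L} f => ((Functor.isoWhiskerLeft (HomotopyCategory.quotient D (ComplexShape.up ℤ))
        (DerivedCategory.homologyFunctorFactorsh D j)) ≪≫
      HomotopyCategory.homologyFunctorFactors D (ComplexShape.up ℤ) j).hom.naturality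
        ((G.mapHomologicalComplex (ComplexShape.up ℤ)).map f.hom))

/-- An object is `G`-acyclic when `G` computes `RG` on it. -/
def IsAc (X : C) : Prop := IsIso ((unitSingle G).app X)

theorem isAc_of_injective (X : C) [Injective X] : IsAc G X := by
  refine (isIso_unitK_iff G _).2 ?_
  have : ∀ n : ℤ, Injective (((HomotopyCategory.Plus.quotient C).obj (singleP.obj X)).obj.as.X n) := by
    intro n
    change Injective (((HomologicalComplex.single C (ComplexShape.up ℤ) 0).obj X).X n)
    by_cases h : n = 0
    · subst h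
      exact Injective.of_iso (HomologicalComplex.singleObjXSelf (ComplexShape.up ℤ) 0 X).symm
        inferInstance
    · exact (HomologicalComplex.isZero_single_obj_X (ComplexShape.up ℤ) 0 X n h).injective
  infer_instance

variable {G} in
theorem IsAc.biprod {X Y : C} (hX : IsAc G X) (hY : IsAc G Y) : IsAc G (X ⊞ Y) :=
  @isIso_app_biprod _ _ _ _ _ _ _ _ _ _ _ (unitSingle G) X Y hX hY

variable {G} in
theorem IsAc.of_iso {X Y : C} (e : X ≅ Y) (hX : IsAc G X) : IsAc G Y :=
  (NatTrans.isIso_app_iff_of_iso (unitSingle G) e).1 hX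

variable {G} in
theorem IsAc.isZero {X : C} (hX : IsAc G X) (j : ℤ) (hj : j ≠ 0) :
    IsZero ((DerivedCategory.homologyFunctor D j).obj ((RGsingle G).obj X)) := by
  have : IsIso ((unitSingle G).app X) := hX
  refine IsZero.of_iso ?_ ((DerivedCategory.homologyFunctor D j).mapIso
    (asIso ((unitSingle G).app X))).symm
  refine IsZero.of_iso ?_ ((GKHomologyIso G j).app (singleP.obj X))
  exact IsZero.of_iso ((HomologicalComplex.exactAt_single_obj (ComplexShape.up ℤ) 0 _ j
      hj).isZero_homology)
    ((HomologicalComplex.homologyFunctor D (ComplexShape.up ℤ) j).mapIso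
      ((HomologicalComplex.singleMapHomologicalComplex G (ComplexShape.up ℤ) 0).app X))

/-- `H⁰` of the naive `G` on an object is `G` of it. -/
noncomputable def GsingleH0Iso : Gsingle G ⋙ DerivedCategory.homologyFunctor D 0 ≅ G :=
  NatIso.ofComponents (fun X => (GKHomologyIso G 0).app (singleP.obj X) ≪≫
      ((Functor.isoWhiskerRight (HomologicalComplex.singleMapHomologicalComplex G (ComplexShape.up ℤ) 0)
        (HomologicalComplex.homologyFunctor D (ComplexShape.up ℤ) 0)) ≪≫
      Functor.associator _ _ _ ≪≫
      Functor.isoWhiskerLeft G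
        (HomologicalComplex.homologyFunctorSingleIso D (ComplexShape.up ℤ) 0) ≪≫
      G.rightUnitor).app X)
    (fun {X Y} f => by
      let e := (Functor.isoWhiskerRight
        (HomologicalComplex.singleMapHomologicalComplex G (ComplexShape.up ℤ) 0)
        (HomologicalComplex.homologyFunctor D (ComplexShape.up ℤ) 0)) ≪≫
        Functor.associator _ _ _ ≪≫
        Functor.isoWhiskerLeft G
          (HomologicalComplex.homologyFunctorSingleIso D (ComplexShape.up ℤ) 0) ≪≫
        G.rightUnitor
      have h₁ := (GKHomologyIso G 0).hom.naturality (singleP.map f)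
      have h₂ := e.hom.naturality f
      change _ ≫ (GKHomologyIso G 0).hom.app (singleP.obj Y) ≫ e.hom.app Y = (_ ≫ e.hom.app X) ≫ G.map f
      rw [← Category.assoc, Category.assoc _ (e.hom.app X), ← h₂, ← Category.assoc]
      exact congrArg (· ≫ e.hom.app Y) h₁)

variable [PreservesFiniteLimits G]

theorem mono_homology_unitSingle (X : C) :
    Mono ((DerivedCategory.homologyFunctor D 0).map ((unitSingle G).app X)) := by
  let K : CochainComplex.Plus C := singleP.obj X
  have : K.obj.IsStrictlyGE 0 :=
    (inferInstance :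
      CochainComplex.IsStrictlyGE ((HomologicalComplex.single C (ComplexShape.up ℤ) 0).obj X) 0)
  obtain ⟨I, hI, s, hs⟩ := CochainComplex.Plus.exists_quasiIso_injective K 0
  let J := (InjectiveObject.ι C).mapCochainComplexPlus.obj I
  have hJ : IsZero (J.obj.X (-1)) :=
    (InjectiveObject.ι C).map_isZero (I.obj.isZero_of_isStrictlyGE 0 (-1) (by lia))
  have hK : IsZero (K.obj.X (-1)) := K.obj.isZero_of_isStrictlyGE 0 (-1) (by lia)
  have hsQ : QuasiIso s.hom := hs
  have : Mono (s.hom.f 0) := by
    have := K.obj.isIso_homologyπ (-1) 0 (by simp) (hK.eq_of_src _ _)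
    have := J.obj.isIso_homologyπ (-1) 0 (by simp) (hJ.eq_of_src _ _)
    have := K.obj.isIso_iCycles 0 1 (by simp)
      ((HomologicalComplex.isZero_single_obj_X (ComplexShape.up ℤ) 0 X 1 (by lia)).eq_of_tgt _ _)
    have h2 : IsIso (HomologicalComplex.cyclesMap s.hom 0) := by
      have h := HomologicalComplex.homologyπ_naturality s.hom 0
      have : IsIso (HomologicalComplex.cyclesMap s.hom 0 ≫ J.obj.homologyπ 0) := by
        rw [← h]; infer_instance
      exact IsIso.of_isIso_comp_right _ (J.obj.homologyπ 0)
    have h3 : inv (K.obj.iCycles 0) ≫ HomologicalComplex.cyclesMap s.hom 0 ≫ J.obj.iCycles 0 =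
        s.hom.f 0 := by
      rw [IsIso.inv_comp_eq, HomologicalComplex.cyclesMap_i]
    rw [← h3]
    infer_instance
  have hm : Mono (HomologicalComplex.homologyMap
      ((G.mapHomologicalComplex (ComplexShape.up ℤ)).map s.hom) 0) := by
    have : Mono (((G.mapHomologicalComplex (ComplexShape.up ℤ)).map s.hom).f 0) :=
      inferInstanceAs (Mono (G.map (s.hom.f 0)))
    exact mono_homologyMap_of_mono _ (G.map_isZero hK) (G.map_isZero hJ)
  let q := (HomotopyCategory.Plus.quotient C).map s
  have hm' : Mono ((DerivedCategory.homologyFunctor D 0).map ((GK G).map q)) := by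
    have h := (GKHomologyIso G 0).hom.naturality s
    rw [← Iso.app_hom (GKHomologyIso G 0) J, ← Iso.eq_comp_inv] at h
    have e : (DerivedCategory.homologyFunctor D 0).map ((GK G).map q) =
      ((GKHomologyIso G 0).hom.app K ≫ HomologicalComplex.homologyMap
        ((G.mapHomologicalComplex (ComplexShape.up ℤ)).map s.hom) 0) ≫
        ((GKHomologyIso G 0).app J).inv := h
    rw [e]
    have : Mono ((GKHomologyIso G 0).hom.app K) :=
      inferInstanceAs (Mono (((GKHomologyIso G 0).app K).hom))
    exact @mono_comp _ _ _ _ _ _ (@mono_comp _ _ _ _ _ _ this _ hm) _ inferInstance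
  have : IsIso ((unitK G).app ((HomotopyCategory.Plus.quotient C).obj J)) :=
    (isIso_unitK_iff G _).2 inferInstance
  have hnat := congrArg (DerivedCategory.homologyFunctor D 0).map ((unitK G).naturality q)
  rw [Functor.map_comp, Functor.map_comp] at hnat
  have : Mono ((DerivedCategory.homologyFunctor D 0).map
      ((unitK G).app ((HomotopyCategory.Plus.quotient C).obj K)) ≫
      (DerivedCategory.homologyFunctor D 0).map ((RGK G).map q)) := by
    rw [← hnat]; exact mono_comp _ _
  exact mono_of_mono ((DerivedCategory.homologyFunctor D 0).map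
      ((unitK G).app ((HomotopyCategory.Plus.quotient C).obj K)))
    ((DerivedCategory.homologyFunctor D 0).map ((RGK G).map q))

/-- Dimension shifting along a short exact sequence with acyclic middle term. -/
theorem dimension_shift {X Y Z : C} (f : X ⟶ Y) (g : Y ⟶ Z) (h : f ≫ g = 0)
    (hS : (ShortComplex.mk f g h).ShortExact) (hY : IsAc G Y)
    (hX : ∀ j : ℤ, 0 < j → IsZero ((DerivedCategory.homologyFunctor D j).obj ((RGsingle G).obj X))) :
    Epi (G.map g) ∧
      ∀ j : ℤ, 0 < j → IsZero ((DerivedCategory.homologyFunctor D j).obj ((RGsingle G).obj Z)) := by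
  have h0 : (singleP.map f).hom ≫ (singleP.map g).hom = 0 := by
    change (HomologicalComplex.single C (ComplexShape.up ℤ) 0).map f ≫
      (HomologicalComplex.single C (ComplexShape.up ℤ) 0).map g = 0
    rw [← Functor.map_comp, h, Functor.map_zero]
  have hS' : (ShortComplex.mk (singleP.map f).hom (singleP.map g).hom h0).ShortExact :=
    hS.map_of_exact (HomologicalComplex.single C (ComplexShape.up ℤ) 0)
  obtain ⟨w, hw⟩ := exists_distinguished_plus (singleP.map f) (singleP.map g) h0 hS'
  refine ⟨?_, fun j hj => ?_⟩
  · obtain ⟨-, δ, ⟨z, e⟩, -⟩ := long_exact G _ _ w hw 0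
    have hepi : Epi ((DerivedCategory.homologyFunctor D 0).map ((RGsingle G).map g)) :=
      e.epi_f ((hX (0 + 1) (by lia)).eq_of_tgt _ _)
    have hnat := congrArg (DerivedCategory.homologyFunctor D 0).map ((unitSingle G).naturality g)
    rw [Functor.map_comp, Functor.map_comp] at hnat
    have : IsIso ((unitSingle G).app Y) := hY
    have := mono_homology_unitSingle G Z
    have h1 : Epi ((DerivedCategory.homologyFunctor D 0).map ((Gsingle G).map g) ≫
        (DerivedCategory.homologyFunctor D 0).map ((unitSingle G).app Z)) := by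
      rw [hnat]; exact epi_comp _ _
    have := epi_of_epi ((DerivedCategory.homologyFunctor D 0).map ((Gsingle G).map g))
      ((DerivedCategory.homologyFunctor D 0).map ((unitSingle G).app Z))
    have : IsIso ((DerivedCategory.homologyFunctor D 0).map ((unitSingle G).app Z)) :=
      isIso_of_mono_of_epi _
    have h2 : Epi ((Gsingle G ⋙ DerivedCategory.homologyFunctor D 0).map g) := by
      have e2 : (Gsingle G ⋙ DerivedCategory.homologyFunctor D 0).map g =
          ((DerivedCategory.homologyFunctor D 0).map ((Gsingle G).map g) ≫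
            (DerivedCategory.homologyFunctor D 0).map ((unitSingle G).app Z)) ≫
          inv ((DerivedCategory.homologyFunctor D 0).map ((unitSingle G).app Z)) := by simp
      rw [e2]; infer_instance
    rw [← NatIso.naturality_1 (GsingleH0Iso G) g]
    infer_instance
  · obtain ⟨-, δ, ⟨z, e⟩, -⟩ := long_exact G _ _ w hw j
    exact e.isZero_X₂ ((hY.isZero j (by lia)).eq_of_src _ _)
      ((hX (j + 1) (by lia)).eq_of_tgt _ _)

/-- `G` of a bounded below acyclic complex of acyclic objects is acyclic. -/
theorem acyclic_map (M : CochainComplex C ℤ) (a : ℤ) [M.IsStrictlyGE a] (hM : M.Acyclic)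
    (hac : ∀ n, IsAc G (M.X n)) :
    ((G.mapHomologicalComplex (ComplexShape.up ℤ)).obj M).Acyclic := by
  have hSES : ∀ n : ℤ, ∃ h : M.iCycles n ≫ M.toCycles n (n + 1) = 0,
      (ShortComplex.mk (M.iCycles n) (M.toCycles n (n + 1)) h).ShortExact := by
    intro n
    have h : M.iCycles n ≫ M.toCycles n (n + 1) = 0 := by
      rw [← cancel_mono (M.iCycles (n + 1)), Category.assoc, HomologicalComplex.toCycles_i,
        HomologicalComplex.iCycles_d, zero_comp]
    have hepi : Epi (M.toCycles n (n + 1)) := by
      refine Preadditive.epi_of_cancel_zero _ (fun {P} g hg => ?_)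
      obtain ⟨g', hg'⟩ := CokernelCofork.IsColimit.desc'
        (M.homologyIsCokernel n (n + 1) (by simp)) g hg
      rw [← hg']
      exact (congrArg (· ≫ g') ((hM (n + 1)).isZero_homology.eq_of_tgt
        (M.homologyπ (n + 1)) 0)).trans zero_comp
    exact ⟨h, { exact := by
                  refine (ShortComplex.exact_iff_of_epi_of_isIso_of_mono
                    ({ τ₁ := 𝟙 _, τ₂ := 𝟙 _, τ₃ := M.iCycles (n + 1) } :
                      ShortComplex.mk (M.iCycles n) (M.toCycles n (n + 1)) h ⟶
                      ShortComplex.mk (M.iCycles n) (M.d n (n + 1)) (M.iCycles_d n (n + 1)))).2 ?_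
                  exact ShortComplex.exact_of_f_is_kernel _ (M.cyclesIsKernel n (n + 1) (by simp))
                mono_f := inferInstanceAs (Mono (M.iCycles n))
                epi_g := hepi }⟩
  have hZ : ∀ (k : ℕ) (j : ℤ), 0 < j →
      IsZero ((DerivedCategory.homologyFunctor D j).obj ((RGsingle G).obj (M.cycles (a - 1 + k)))) := by
    intro k
    induction k with
    | zero =>
      intro j _
      exact (DerivedCategory.homologyFunctor D j).map_isZero ((RGsingle G).map_isZero
        (IsZero.of_mono (M.iCycles _) (M.isZero_of_isStrictlyGE a _ (by lia))))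
    | succ k ih =>
      obtain ⟨h, hS⟩ := hSES (a - 1 + k)
      have e : a - 1 + (k : ℤ) + 1 = a - 1 + ((k + 1 : ℕ) : ℤ) := by push_cast; ring
      exact e ▸ (dimension_shift G _ _ h hS (hac _) ih).2
  intro i
  by_cases hi : i < a
  · exact ShortComplex.exact_of_isZero_X₂ _ (G.map_isZero (M.isZero_of_isStrictlyGE a i hi))
  obtain ⟨k, hk⟩ : ∃ k : ℕ, i - 1 = a - 1 + k := ⟨(i - a).toNat, by omega⟩
  rw [HomologicalComplex.exactAt_iff' _ (i - 1) i (i + 1) (by simp) (by simp)]
  have hepi : Epi (G.map (M.toCycles (i - 1) (i - 1 + 1))) := by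
    generalize i - 1 = n at hk ⊢
    subst hk
    obtain ⟨h, hS⟩ := hSES (a - 1 + k)
    exact (dimension_shift G _ _ h hS (hac _) (hZ k)).1
  rw [show i - 1 + 1 = i by ring] at hepi
  have hker : (ShortComplex.mk (G.map (M.iCycles i)) (G.map (M.d i (i + 1)))
      (by rw [← Functor.map_comp, M.iCycles_d, Functor.map_zero])).Exact := by
    have : (ShortComplex.mk (M.iCycles i) (M.d i (i + 1)) (M.iCycles_d i (i + 1))).Exact :=
      ShortComplex.exact_of_f_is_kernel _ (M.cyclesIsKernel i (i + 1) (by simp))
    exact this.map_of_mono_of_preservesKernel G inferInstance inferInstance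
  let φ : ((G.mapHomologicalComplex (ComplexShape.up ℤ)).obj M).sc' (i - 1) i (i + 1) ⟶
      ShortComplex.mk (G.map (M.iCycles i)) (G.map (M.d i (i + 1)))
        (by rw [← Functor.map_comp, M.iCycles_d, Functor.map_zero]) :=
    { τ₁ := G.map (M.toCycles (i - 1) i), τ₂ := 𝟙 _, τ₃ := 𝟙 _,
      comm₁₂ := by
        change G.map (M.toCycles (i - 1) i) ≫ G.map (M.iCycles i) = G.map (M.d (i - 1) i) ≫ 𝟙 _
        rw [Category.comp_id, ← Functor.map_comp, HomologicalComplex.toCycles_i]
      comm₂₃ := (Category.id_comp _).trans (Category.comp_id _).symm }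
  have : Epi φ.τ₁ := hepi
  have : IsIso φ.τ₂ := inferInstanceAs (IsIso (𝟙 (G.obj (M.X i))))
  have : Mono φ.τ₃ := inferInstanceAs (Mono (𝟙 (G.obj (M.X (i + 1)))))
  exact (ShortComplex.exact_iff_of_epi_of_isIso_of_mono φ).2 hker

/-- On a bounded below complex of `G`-acyclic objects, `G` computes `RG`. -/
theorem isIso_unit_of_isAc (K : CochainComplex.Plus C) (hK : ∀ n, IsAc G (K.obj.X n)) :
    IsIso (G.rightDerivedFunctorPlusUnit.app ((HomotopyCategory.Plus.quotient C).obj K)) := by
  obtain ⟨a, ha⟩ := K.property
  obtain ⟨I, hI, s, hs⟩ := CochainComplex.Plus.exists_quasiIso_injective K a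
  let J := (InjectiveObject.ι C).mapCochainComplexPlus.obj I
  have hsQ : QuasiIso s.hom := hs
  have hJge : J.obj.IsStrictlyGE a :=
    (CochainComplex.isStrictlyGE_mapHomologicalComplex_obj_iff _ _ _).2 hI
  let M := CochainComplex.mappingCone s.hom
  have : M.IsStrictlyGE (a - 1) := CochainComplex.isStrictlyGE_mappingCone s.hom a a (a - 1)
  have hT := HomotopyCategory.mappingCone_triangleh_distinguished s.hom
  have hMac : M.Acyclic := by
    have h := ((HomotopyCategory.subcategoryAcyclic C).trW_iff_of_distinguished _ hT).1 (by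
      rw [← HomotopyCategory.quasiIso_eq_trW_subcategoryAcyclic]
      exact (HomotopyCategory.quotient_map_mem_quasiIso_iff _).2
        ((HomologicalComplex.mem_quasiIso_iff _).2 hsQ))
    exact (HomotopyCategory.quotient_obj_mem_subcategoryAcyclic_iff_acyclic _).1 h
  have hMX : ∀ n, IsAc G (M.X n) := fun n => by
    refine IsAc.of_iso (HomologicalComplex.homotopyCofiber.XIsoBiprod s.hom n (n + 1) rfl).symm
      ((hK _).biprod ?_)
    have : Injective (J.obj.X n) := inferInstanceAs (Injective ((InjectiveObject.ι C).obj (I.obj.X n)))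
    exact isAc_of_injective G _
  have hG := acyclic_map G M (a - 1) hMac hMX
  let q := (HomotopyCategory.Plus.quotient C).map s
  have h1 : IsIso ((GK G).map q) := by
    rw [isIso_GK_map_iff, HomotopyCategory.quasiIso_eq_trW_subcategoryAcyclic]
    refine ((HomotopyCategory.subcategoryAcyclic D).trW_iff_of_distinguished _
      ((G.mapHomotopyCategory (ComplexShape.up ℤ)).map_distinguished _ hT)).2 ?_
    exact (HomotopyCategory.quotient_obj_mem_subcategoryAcyclic_iff_acyclic _).2 hG
  have h2 : IsIso ((RGK G).map q) := by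
    have : IsIso (DerivedCategory.Plus.Qh.map q) :=
      Localization.inverts DerivedCategory.Plus.Qh (HomotopyCategory.Plus.quasiIso C) q
        ((HomotopyCategory.quotient_map_mem_quasiIso_iff _).2
          ((HomologicalComplex.mem_quasiIso_iff _).2 hsQ))
    exact inferInstanceAs (IsIso (DerivedCategory.Plus.ι.map (G.rightDerivedFunctorPlus.map
      (DerivedCategory.Plus.Qh.map q))))
  have : IsIso ((unitK G).app ((HomotopyCategory.Plus.quotient C).obj J)) :=
    (isIso_unitK_iff G _).2 inferInstance
  rw [← isIso_unitK_iff]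
  have hnat := (unitK G).naturality q
  have : IsIso ((unitK G).app ((HomotopyCategory.Plus.quotient C).obj K) ≫ (RGK G).map q) := by
    rw [← hnat]
    exact IsIso.comp_isIso
  exact IsIso.of_isIso_comp_right _ ((RGK G).map q)

end Groth.Agent.RFPlus43
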