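import Mathlib.Algebra.Homology.DerivedCategory.RightDerivedFunctorPlus
import Mathlib.Algebra.Homology.DerivedCategory.ShortExact
import Mathlib.Algebra.Homology.DerivedCategory.HomologySequence
import Mathlib.CategoryTheory.Abelian.Exact
import Mathlib.CategoryTheory.Preadditive.Injective.InjectiveObject

/-! The long exact sequence of the right derived functor on bounded below complexes. -/

set_option autoImplicit false
universe w w' v u v' u'

namespace Groth.Agent.RFPlus43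

open CategoryTheory CategoryTheory.Limits CategoryTheory.Pretriangulated

variable {C : Type u} [Category.{v} C] [Abelian C] [HasDerivedCategory.{w} C]

/-- A short exact sequence of bounded below complexes gives a distinguished triangle in `D⁺`. -/
theorem exists_distinguished_plus {X₁ X₂ X₃ : CochainComplex.Plus C} (f : X₁ ⟶ X₂) (g : X₂ ⟶ X₃)
    (hzero : f.hom ≫ g.hom = 0) (hS : (ShortComplex.mk f.hom g.hom hzero).ShortExact) :
    ∃ w : DerivedCategory.Plus.Qh.obj ((HomotopyCategory.Plus.quotient C).obj X₃) ⟶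
        (DerivedCategory.Plus.Qh.obj ((HomotopyCategory.Plus.quotient C).obj X₁))⟦(1 : ℤ)⟧,
      Triangle.mk (DerivedCategory.Plus.Qh.map ((HomotopyCategory.Plus.quotient C).map f))
        (DerivedCategory.Plus.Qh.map ((HomotopyCategory.Plus.quotient C).map g)) w ∈
          distTriang (DerivedCategory.Plus C) := by
  obtain ⟨Z, p, q, hT⟩ := distinguished_cocone_triangle
    (DerivedCategory.Plus.Qh.map ((HomotopyCategory.Plus.quotient C).map f))
  let e : ∀ K : CochainComplex.Plus C,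
      DerivedCategory.Plus.ι.obj (DerivedCategory.Plus.Qh.obj ((HomotopyCategory.Plus.quotient C).obj K)) ≅
        DerivedCategory.Q.obj K.obj := fun K => (DerivedCategory.quotientCompQhIso C).app K.obj
  have hT' := (DerivedCategory.Plus.ι (C := C)).map_distinguished _ hT
  have hc : ∀ {K L : CochainComplex.Plus C} (φ : K ⟶ L),
      DerivedCategory.Plus.ι.map (DerivedCategory.Plus.Qh.map ((HomotopyCategory.Plus.quotient C).map φ)) ≫
        (e L).hom = (e K).hom ≫ DerivedCategory.Q.map φ.hom := fun φ =>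
    (DerivedCategory.quotientCompQhIso C).hom.naturality φ.hom
  let E := isoTriangleOfIso₁₂ _ _ hT' (DerivedCategory.triangleOfSES_distinguished hS) (e X₁) (e X₂)
    (hc f)
  let E₃ : DerivedCategory.Plus.ι.obj Z ≅ DerivedCategory.Q.obj X₃.obj := Triangle.π₃.mapIso E
  let e₃ : Z ≅ DerivedCategory.Plus.Qh.obj ((HomotopyCategory.Plus.quotient C).obj X₃) :=
    DerivedCategory.Plus.ι.preimageIso (E₃ ≪≫ (e X₃).symm)
  refine ⟨e₃.inv ≫ q, isomorphic_distinguished _ hT _ ?_⟩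
  refine Iso.symm (Triangle.isoMk _ _ (Iso.refl _) (Iso.refl _) e₃ ?_ ?_ ?_)
  · exact (Category.comp_id _).trans (Category.id_comp _).symm
  · change p ≫ e₃.hom = 𝟙 _ ≫ DerivedCategory.Plus.Qh.map _
    rw [Category.id_comp]
    apply DerivedCategory.Plus.ι.map_injective
    rw [Functor.map_comp, Functor.preimageIso_hom, Functor.map_preimage, ← cancel_mono (e X₃).hom,
      hc g]
    simp only [Iso.trans_hom, Functor.mapIso_hom, Iso.symm_hom, Category.assoc, Iso.inv_hom_id,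
      Category.comp_id]
    have h2 := E.hom.comm₂
    rw [isoTriangleOfIso₁₂_hom_hom₂] at h2
    exact h2
  · change q ≫ (shiftFunctor _ (1 : ℤ)).map (𝟙 _) = e₃.hom ≫ e₃.inv ≫ q
    simp

variable [EnoughInjectives C] {D : Type u'} [Category.{v'} D] [Abelian D] [HasDerivedCategory.{w'} D]
  (F : C ⥤ D) [F.Additive]

/-- The long exact sequence of `H^i ∘ RF` attached to a distinguished triangle of `D⁺(C)`. -/
theorem long_exact {B₁ B₂ B₃ : HomotopyCategory.Plus C} (a : B₁ ⟶ B₂) (b : B₂ ⟶ B₃)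
    (w : DerivedCategory.Plus.Qh.obj B₃ ⟶ (DerivedCategory.Plus.Qh.obj B₁)⟦(1 : ℤ)⟧)
    (hT : Triangle.mk (DerivedCategory.Plus.Qh.map a) (DerivedCategory.Plus.Qh.map b) w ∈
      distTriang (DerivedCategory.Plus C)) (i : ℤ) :
    let G := fun j : ℤ => DerivedCategory.Plus.Qh ⋙ F.rightDerivedFunctorPlus ⋙
      DerivedCategory.Plus.ι ⋙ DerivedCategory.homologyFunctor D j
    (∃ h : (G i).map a ≫ (G i).map b = 0, (ShortComplex.mk _ _ h).Exact) ∧
      ∃ δ : (G i).obj B₃ ⟶ (G (i + 1)).obj B₁,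
        (∃ h : (G i).map b ≫ δ = 0, (ShortComplex.mk _ _ h).Exact) ∧
        (∃ h : δ ≫ (G (i + 1)).map a = 0, (ShortComplex.mk _ _ h).Exact) := by
  intro G
  let r : (HomotopyCategory.Plus.localizerMorphism C).arrow.RightResolution (Arrow.mk a) :=
    Classical.arbitrary _
  obtain ⟨I₃, g', h', hI⟩ := distinguished_cocone_triangle r.X₁.hom
  let ιI := (InjectiveObject.ι C).mapHomotopyCategoryPlus
  have hS₀ := ιI.map_distinguished _ hI
  let S := ιI.mapTriangle.obj (Triangle.mk r.X₁.hom g' h')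
  have hS : S ∈ distTriang (HomotopyCategory.Plus C) := hS₀
  have hw₁ := Localization.inverts DerivedCategory.Plus.Qh _ _ r.hw.1
  have hw₂ := Localization.inverts DerivedCategory.Plus.Qh _ _ r.hw.2
  let q₁ : B₁ ⟶ S.obj₁ := r.w.left
  let q₂ : B₂ ⟶ S.obj₂ := r.w.right
  let e₁ := @asIso _ _ _ _ (DerivedCategory.Plus.Qh.map q₁) hw₁
  let e₂ := @asIso _ _ _ _ (DerivedCategory.Plus.Qh.map q₂) hw₂
  have comm : a ≫ q₂ = q₁ ≫ S.mor₁ := r.w.w.symm
  let E := isoTriangleOfIso₁₂ _ _ hT (DerivedCategory.Plus.Qh.map_distinguished S hS) e₁ e₂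
    (show DerivedCategory.Plus.Qh.map a ≫ DerivedCategory.Plus.Qh.map q₂ =
        DerivedCategory.Plus.Qh.map q₁ ≫ DerivedCategory.Plus.Qh.map S.mor₁ by
      rw [← Functor.map_comp, comm, Functor.map_comp])
  have u₁ : IsIso (F.rightDerivedFunctorPlusUnit.app S.obj₁) :=
    inferInstanceAs (IsIso (F.rightDerivedFunctorPlusUnit.app (ιI.obj r.X₁.left)))
  have u₂ : IsIso (F.rightDerivedFunctorPlusUnit.app S.obj₂) :=
    inferInstanceAs (IsIso (F.rightDerivedFunctorPlusUnit.app (ιI.obj r.X₁.right)))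
  have u₃ : IsIso (F.rightDerivedFunctorPlusUnit.app S.obj₃) :=
    inferInstanceAs (IsIso (F.rightDerivedFunctorPlusUnit.app (ιI.obj I₃)))
  let Hf := fun j : ℤ => DerivedCategory.Plus.ι ⋙ DerivedCategory.homologyFunctor D j
  let T := DerivedCategory.Plus.ι.mapTriangle.obj
    ((F.mapHomotopyCategoryPlus ⋙ DerivedCategory.Plus.Qh).mapTriangle.obj S)
  have hT' : T ∈ distTriang (DerivedCategory D) :=
    DerivedCategory.Plus.ι.map_distinguished _
      ((F.mapHomotopyCategoryPlus ⋙ DerivedCategory.Plus.Qh).map_distinguished _ hS)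
  let A₁ : DerivedCategory.Plus.Qh.obj B₁ ≅ DerivedCategory.Plus.Qh.obj S.obj₁ := e₁
  let A₂ : DerivedCategory.Plus.Qh.obj B₂ ≅ DerivedCategory.Plus.Qh.obj S.obj₂ := e₂
  let A₃ : DerivedCategory.Plus.Qh.obj B₃ ≅ DerivedCategory.Plus.Qh.obj S.obj₃ :=
    Triangle.π₃.mapIso E
  have c₁ : DerivedCategory.Plus.Qh.map a ≫ A₂.hom = A₁.hom ≫ DerivedCategory.Plus.Qh.map S.mor₁ := by
    change DerivedCategory.Plus.Qh.map a ≫ DerivedCategory.Plus.Qh.map q₂ =
        DerivedCategory.Plus.Qh.map q₁ ≫ DerivedCategory.Plus.Qh.map S.mor₁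
    rw [← Functor.map_comp, comm, Functor.map_comp]
  have c₂ : DerivedCategory.Plus.Qh.map b ≫ A₃.hom = A₂.hom ≫ DerivedCategory.Plus.Qh.map S.mor₂ := by
    have h2 := E.hom.comm₂
    rw [isoTriangleOfIso₁₂_hom_hom₂] at h2
    exact h2
  let R := fun (j : ℤ) => F.rightDerivedFunctorPlus ⋙ Hf j
  let φ : ∀ (j : ℤ) {B K : HomotopyCategory.Plus C}
      (_ : DerivedCategory.Plus.Qh.obj B ≅ DerivedCategory.Plus.Qh.obj K)
      (_ : IsIso (F.rightDerivedFunctorPlusUnit.app K)),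
      (G j).obj B ≅ (Hf j).obj ((F.mapHomotopyCategoryPlus ⋙ DerivedCategory.Plus.Qh).obj K) :=
    fun j {B K} A hK => (R j).mapIso A ≪≫
      ((Hf j).mapIso (@asIso _ _ _ _ (F.rightDerivedFunctorPlusUnit.app K) hK)).symm
  have key : ∀ (j : ℤ) {B B' K K' : HomotopyCategory.Plus C} (x : B ⟶ B') (y : K ⟶ K')
      (A : DerivedCategory.Plus.Qh.obj B ≅ DerivedCategory.Plus.Qh.obj K)
      (A' : DerivedCategory.Plus.Qh.obj B' ≅ DerivedCategory.Plus.Qh.obj K')
      (hK : IsIso (F.rightDerivedFunctorPlusUnit.app K))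
      (hK' : IsIso (F.rightDerivedFunctorPlusUnit.app K'))
      (_ : DerivedCategory.Plus.Qh.map x ≫ A'.hom = A.hom ≫ DerivedCategory.Plus.Qh.map y),
      (G j).map x ≫ (φ j A' hK').hom = (φ j A hK).hom ≫
        (Hf j).map ((F.mapHomotopyCategoryPlus ⋙ DerivedCategory.Plus.Qh).map y) := by
    intro j B B' K K' x y A A' hK hK' hxy
    have h1 : (R j).map (DerivedCategory.Plus.Qh.map x) ≫ (R j).map A'.hom =
        (R j).map A.hom ≫ (R j).map (DerivedCategory.Plus.Qh.map y) := by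
      rw [← Functor.map_comp, hxy, Functor.map_comp]
    have h2 := congrArg (Hf j).map (F.rightDerivedFunctorPlusUnit.naturality y)
    rw [Functor.map_comp, Functor.map_comp] at h2
    simp only [φ, Iso.trans_hom, Functor.mapIso_hom, Iso.symm_hom, Functor.mapIso_inv]
    change (R j).map _ ≫ _ = _
    rw [← Category.assoc, h1, Category.assoc, Category.assoc]
    congr 1
    change (R j).map _ ≫ (Hf j).map (@asIso _ _ _ _ (F.rightDerivedFunctorPlusUnit.app K') hK').inv =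
      (Hf j).map (@asIso _ _ _ _ (F.rightDerivedFunctorPlusUnit.app K) hK).inv ≫ _
    rw [← Functor.mapIso_inv, ← Functor.mapIso_inv, Iso.comp_inv_eq, Category.assoc,
      Iso.eq_inv_comp]
    exact h2.symm
  let p₁ := φ i A₁ u₁
  let p₂ := φ i A₂ u₂
  let p₃ := φ i A₃ u₃
  let p₄ := φ (i + 1) A₁ u₁
  let p₅ := φ (i + 1) A₂ u₂
  have k₁ := key i a S.mor₁ A₁ A₂ u₁ u₂ c₁
  have k₂ := key i b S.mor₂ A₂ A₃ u₂ u₃ c₂
  have k₃ := key (i + 1) a S.mor₁ A₁ A₂ u₁ u₂ c₁
  let L := F.mapHomotopyCategoryPlus ⋙ DerivedCategory.Plus.Qh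
  let δ₀ : (Hf i).obj (L.obj S.obj₃) ⟶ (Hf (i + 1)).obj (L.obj S.obj₁) :=
    DerivedCategory.HomologySequence.δ T i (i + 1) rfl
  have z₀ : (Hf i).map (L.map S.mor₁) ≫ (Hf i).map (L.map S.mor₂) = 0 := by
    rw [← Functor.map_comp, ← Functor.map_comp,
      show S.mor₁ ≫ S.mor₂ = 0 from comp_distTriang_mor_zero₁₂ _ hS]
    simp
  have z₁ : (Hf i).map (L.map S.mor₂) ≫ δ₀ = 0 :=
    DerivedCategory.HomologySequence.comp_δ T hT' i (i + 1) rfl
  have z₂ : δ₀ ≫ (Hf (i + 1)).map (L.map S.mor₁) = 0 :=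
    DerivedCategory.HomologySequence.δ_comp T hT' i (i + 1) rfl
  have E₀ : (ShortComplex.mk _ _ z₀).Exact := DerivedCategory.HomologySequence.exact₂ T hT' i
  have E₁ : (ShortComplex.mk _ _ z₁).Exact :=
    DerivedCategory.HomologySequence.exact₃ T hT' i (i + 1) rfl
  have E₂ : (ShortComplex.mk _ _ z₂).Exact :=
    DerivedCategory.HomologySequence.exact₁ T hT' i (i + 1) rfl
  have m₁ : p₃.hom ≫ δ₀ = (p₃.hom ≫ δ₀ ≫ p₄.inv) ≫ p₄.hom := by
    rw [Category.assoc, Category.assoc, p₄.inv_hom_id, Category.comp_id]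
  refine ⟨⟨?_, ?_⟩, p₃.hom ≫ δ₀ ≫ p₄.inv, ⟨?_, ?_⟩, ⟨?_, ?_⟩⟩
  · rw [← cancel_mono p₃.hom, Category.assoc, k₂, ← Category.assoc, k₁, Category.assoc, z₀,
      comp_zero, zero_comp]
  · exact ShortComplex.exact_of_iso (ShortComplex.isoMk p₁ p₂ p₃ k₁.symm k₂.symm).symm E₀
  · rw [← Category.assoc, k₂, Category.assoc, ← Category.assoc ((Hf i).map _), z₁, zero_comp,
      comp_zero]
  · exact ShortComplex.exact_of_iso (ShortComplex.isoMk p₂ p₃ p₄ k₂.symm m₁).symm E₁
  · rw [← cancel_mono p₅.hom, Category.assoc, k₃, zero_comp]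
    simp only [Category.assoc]
    rw [p₄.inv_hom_id_assoc, z₂, comp_zero]
  · exact ShortComplex.exact_of_iso (ShortComplex.isoMk p₃ p₄ p₅ m₁ k₃.symm).symm E₂

end Groth.Agent.RFPlus43
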